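import Mathlib

/-! `Tor₁` as the kernel of a tensored presentation, for any projective presentation. -/

set_option autoImplicit false
set_option backward.isDefEq.respectTransparency false
universe u
open CategoryTheory TensorProduct

namespace Groth.Agent.W7Tor

variable {R : Type u} [CommRing R] (N : Type u) [AddCommGroup N] [Module R N]

theorem exists_presentation (M : Type u) [AddCommGroup M] [Module R M] :
    ∃ (F : Type u) (_ : AddCommGroup F) (_ : Module R F) (π : F →ₗ[R] M), Module.Projective R F ∧ Function.Surjective π ∧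
      Nonempty ((((CategoryTheory.Tor (ModuleCat.{u} R) 1).obj (ModuleCat.of R N)).obj (ModuleCat.of R M)) ≅
        ModuleCat.of R (LinearMap.ker ((LinearMap.ker π).subtype.lTensor N))) := by
  let P := ProjectiveResolution.of (ModuleCat.of R M)
  let d1 : P.complex.X 1 →ₗ[R] P.complex.X 0 := (P.complex.d 1 0).hom
  let d2 : P.complex.X 2 →ₗ[R] P.complex.X 1 := (P.complex.d 2 1).hom
  let π : P.complex.X 0 →ₗ[R] M := (P.π.f 0).hom
  have hπ : Function.Surjective π := (ModuleCat.epi_iff_surjective (P.π.f 0)).1 inferInstance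
  have h10 : Function.Exact d1 π := (ShortComplex.ShortExact.moduleCat_exact_iff_function_exact
    (ShortComplex.mk (P.complex.d 1 0) (P.π.f 0) P.complex_d_comp_π_f_zero)).1
    (ShortComplex.exact_of_g_is_cokernel _ P.isColimitCokernelCofork)
  have h21 : Function.Exact d2 d1 := (ShortComplex.ShortExact.moduleCat_exact_iff_function_exact _).1 (P.exact_succ 0)
  refine ⟨P.complex.X 0, inferInstance, inferInstance, π, (IsProjective.iff_projective (P.complex.X 0)).2 (P.projective 0), hπ, ?_⟩
  let d1' : P.complex.X 1 →ₗ[R] LinearMap.ker π := d1.codRestrict _ fun x => (h10 (d1 x)).2 ⟨x, rfl⟩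
  have hd1' : Function.Surjective d1' := fun z =>
    ((h10 z.1).1 z.2).imp fun x hx => Subtype.ext hx
  have h21' : Function.Exact d2 d1' := fun x => ⟨fun hx => (h21 x).1 (congrArg Subtype.val hx),
    fun hx => Subtype.ext ((h21 x).2 hx)⟩
  have hT := lTensor_exact N h21' hd1'
  let F' := (MonoidalCategory.tensoringLeft (ModuleCat.{u} R)).obj (ModuleCat.of R N)
  let K := (F'.mapHomologicalComplex (ComplexShape.down ℕ)).obj P.complex
  let S := K.sc' 2 1 0
  have hcomp : ∀ x, d1.lTensor N x = (LinearMap.ker π).subtype.lTensor N (d1'.lTensor N x) := fun x => by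
    rw [← LinearMap.comp_apply, ← LinearMap.lTensor_comp]; rfl
  let φ : LinearMap.ker (d1.lTensor N) →ₗ[R] LinearMap.ker ((LinearMap.ker π).subtype.lTensor N) :=
    ((d1'.lTensor N).comp (LinearMap.ker (d1.lTensor N)).subtype).codRestrict _ fun x =>
      LinearMap.mem_ker.2 ((hcomp x.1).symm.trans x.2)
  have hφ : Function.Surjective φ := fun z => by
    obtain ⟨x, hx⟩ := LinearMap.lTensor_surjective N hd1' z.1
    exact ⟨⟨x, LinearMap.mem_ker.2 (by rw [hcomp, hx]; exact z.2)⟩, Subtype.ext hx⟩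
  have hker : LinearMap.ker φ = LinearMap.range S.moduleCatToCycles := by
    ext x
    constructor
    · intro hx
      obtain ⟨y, hy⟩ := (hT x.1).1 (congrArg Subtype.val (LinearMap.mem_ker.1 hx))
      exact ⟨y, Subtype.ext hy⟩
    · rintro ⟨y, rfl⟩
      exact LinearMap.mem_ker.2 (Subtype.ext ((hT _).2 ⟨y, rfl⟩))
  exact ⟨P.isoLeftDerivedObj F' 1 ≪≫ K.homologyIsoSc' 2 1 0 (by simp) (by simp) ≪≫ S.moduleCatHomologyIso ≪≫
    LinearEquiv.toModuleIso ((Submodule.quotEquivOfEq _ _ hker.symm).trans (φ.quotKerEquivOfSurjective hφ))⟩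

variable {M : Type u} [AddCommGroup M] [Module R M]

/-- Two projective presentations give the same kernel. -/
theorem ker_equiv {F₀ F : Type u} [AddCommGroup F₀] [Module R F₀] [AddCommGroup F] [Module R F]
    [Module.Projective R F₀] [Module.Projective R F]
    (π₀ : F₀ →ₗ[R] M) (h₀ : Function.Surjective π₀) (π : F →ₗ[R] M) (hπ : Function.Surjective π) :
    Nonempty (LinearMap.ker ((LinearMap.ker π).subtype.lTensor N) ≃ₗ[R] LinearMap.ker ((LinearMap.ker π₀).subtype.lTensor N)) := by
  obtain ⟨h, hh⟩ := Module.projective_lifting_property π₀ π h₀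
  obtain ⟨l, hl⟩ := Module.projective_lifting_property π π₀ hπ
  let hK : LinearMap.ker π →ₗ[R] LinearMap.ker π₀ := (h ∘ₗ (LinearMap.ker π).subtype).codRestrict _
    fun x => LinearMap.mem_ker.2 ((LinearMap.congr_fun hh x.1).trans x.2)
  let lK : LinearMap.ker π₀ →ₗ[R] LinearMap.ker π := (l ∘ₗ (LinearMap.ker π₀).subtype).codRestrict _
    fun x => LinearMap.mem_ker.2 ((LinearMap.congr_fun hl x.1).trans x.2)
  let d : F →ₗ[R] LinearMap.ker π := (LinearMap.id - l ∘ₗ h).codRestrict _ fun v => LinearMap.mem_ker.2 (by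
    show π (v - l (h v)) = 0
    rw [map_sub, ← LinearMap.comp_apply, hl, ← LinearMap.comp_apply, hh, sub_self])
  let e : F₀ →ₗ[R] LinearMap.ker π₀ := (LinearMap.id - h ∘ₗ l).codRestrict _ fun v => LinearMap.mem_ker.2 (by
    show π₀ (v - h (l v)) = 0
    rw [map_sub, ← LinearMap.comp_apply, hh, ← LinearMap.comp_apply, hl, sub_self])
  have hid : d ∘ₗ (LinearMap.ker π).subtype + lK ∘ₗ hK = LinearMap.id :=
    LinearMap.ext fun x => Subtype.ext (by simp [d, lK, hK])
  have hid' : e ∘ₗ (LinearMap.ker π₀).subtype + hK ∘ₗ lK = LinearMap.id :=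
    LinearMap.ext fun x => Subtype.ext (by simp [e, lK, hK])
  let a : LinearMap.ker ((LinearMap.ker π).subtype.lTensor N) →ₗ[R] LinearMap.ker ((LinearMap.ker π₀).subtype.lTensor N) :=
    ((hK.lTensor N).comp (LinearMap.ker ((LinearMap.ker π).subtype.lTensor N)).subtype).codRestrict _ fun x => LinearMap.mem_ker.2 (by
      show (LinearMap.ker π₀).subtype.lTensor N (hK.lTensor N x.1) = 0
      rw [← LinearMap.comp_apply, ← LinearMap.lTensor_comp,
        show (LinearMap.ker π₀).subtype ∘ₗ hK = h ∘ₗ (LinearMap.ker π).subtype from rfl,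
        LinearMap.lTensor_comp, LinearMap.comp_apply, LinearMap.mem_ker.1 x.2, map_zero])
  let b : LinearMap.ker ((LinearMap.ker π₀).subtype.lTensor N) →ₗ[R] LinearMap.ker ((LinearMap.ker π).subtype.lTensor N) :=
    ((lK.lTensor N).comp (LinearMap.ker ((LinearMap.ker π₀).subtype.lTensor N)).subtype).codRestrict _ fun x => LinearMap.mem_ker.2 (by
      show (LinearMap.ker π).subtype.lTensor N (lK.lTensor N x.1) = 0
      rw [← LinearMap.comp_apply, ← LinearMap.lTensor_comp,
        show (LinearMap.ker π).subtype ∘ₗ lK = l ∘ₗ (LinearMap.ker π₀).subtype from rfl,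
        LinearMap.lTensor_comp, LinearMap.comp_apply, LinearMap.mem_ker.1 x.2, map_zero])
  refine ⟨LinearEquiv.ofLinear a b (LinearMap.ext fun x => Subtype.ext ?_) (LinearMap.ext fun x => Subtype.ext ?_)⟩
  · show hK.lTensor N (lK.lTensor N x.1) = x.1
    conv_rhs => rw [show x.1 = (LinearMap.id : LinearMap.ker π₀ →ₗ[R] _).lTensor N x.1 by rw [LinearMap.lTensor_id]; rfl, ← hid']
    simp [LinearMap.lTensor_add, LinearMap.lTensor_comp, LinearMap.mem_ker.1 x.2]
  · show lK.lTensor N (hK.lTensor N x.1) = x.1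
    conv_rhs => rw [show x.1 = (LinearMap.id : LinearMap.ker π →ₗ[R] _).lTensor N x.1 by rw [LinearMap.lTensor_id]; rfl, ← hid]
    simp [LinearMap.lTensor_add, LinearMap.lTensor_comp, LinearMap.mem_ker.1 x.2]

/-- `Tor₁` computed by any projective presentation. -/
theorem tor_iso {F₀ : Type u} [AddCommGroup F₀] [Module R F₀] [Module.Projective R F₀]
    (π₀ : F₀ →ₗ[R] M) (h₀ : Function.Surjective π₀) :
    Nonempty ((((CategoryTheory.Tor (ModuleCat.{u} R) 1).obj (ModuleCat.of R N)).obj (ModuleCat.of R M)) ≅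
      ModuleCat.of R (LinearMap.ker ((LinearMap.ker π₀).subtype.lTensor N))) := by
  obtain ⟨F, _, _, π, _, hπ, ⟨i⟩⟩ := exists_presentation (R := R) N M
  obtain ⟨j⟩ := ker_equiv N π₀ h₀ π hπ
  exact ⟨i ≪≫ j.toModuleIso⟩

end Groth.Agent.W7Tor
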